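import Groth.Agent.DescLib.Fpqc
import Groth.Agent.FpqcPCLib.Main
import Groth.Agent.ConsLib.ModLoci
import Groth.Agent.MiscFlat6.FreeStalks
import Groth.Agent.KFlatLib.AffinePull
import Groth.Agent.S2297

/-!
# Descent of the number of local generators along fpqc coverings
-/

set_option autoImplicit false
set_option linter.style.haveILetI false
set_option backward.isDefEq.respectTransparency false
set_option backward.isDefEq.respectTransparency.types false
set_option maxHeartbeats 800000

universe u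

open CategoryTheory CategoryTheory.Limits AlgebraicGeometry TopologicalSpace Opposite ProjFormLib
open scoped TensorProduct

noncomputable section

namespace LocGenDescLib

theorem finrank_tensor_le (R K B L M : Type u) [CommRing R] [Field K] [CommRing B] [Field L] [Algebra R K]
    [Algebra R B] [Algebra B L] [Algebra R L] [Algebra K L] [IsScalarTower R B L] [IsScalarTower R K L]
    [AddCommGroup M] [Module R M] {m : Type*} [Fintype m] (v : m → B ⊗[R] M)
    (hv : Submodule.span B (Set.range v) = ⊤) :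
    Module.finrank K (K ⊗[R] M) ≤ Fintype.card m := by
  let E : L ⊗[K] (K ⊗[R] M) ≃ₗ[L] L ⊗[B] (B ⊗[R] M) :=
    (TensorProduct.AlgebraTensorModule.cancelBaseChange R K L L M).trans
      (TensorProduct.AlgebraTensorModule.cancelBaseChange R B L L M).symm
  have h0 : Module.finrank L (L ⊗[K] (K ⊗[R] M)) = Module.finrank K (K ⊗[R] M) := Module.finrank_baseChange
  rw [← h0, E.finrank_eq]
  have h := Submodule.baseChange_span (A := L) (R := B) (Set.range v)
  rw [hv, Submodule.baseChange_top, ← Set.range_comp] at h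
  exact finrank_le_of_span_eq_top h.symm

theorem finrank_residue_tensor_le {R B M : Type u} [CommRing R] [IsLocalRing R] [CommRing B] [IsLocalRing B]
    [Algebra R B] [IsLocalHom (algebraMap R B)] [AddCommGroup M] [Module R M] {m : Type*} [Fintype m]
    (v : m → B ⊗[R] M) (hv : Submodule.span B (Set.range v) = ⊤) :
    Module.finrank (IsLocalRing.ResidueField R) (IsLocalRing.ResidueField R ⊗[R] M) ≤ Fintype.card m := by
  letI : Algebra (IsLocalRing.ResidueField R) (IsLocalRing.ResidueField B) :=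
    (IsLocalRing.ResidueField.map (algebraMap R B)).toAlgebra
  haveI : IsScalarTower R (IsLocalRing.ResidueField R) (IsLocalRing.ResidueField B) :=
    IsScalarTower.of_algebraMap_eq fun r => rfl
  exact finrank_tensor_le R (IsLocalRing.ResidueField R) B (IsLocalRing.ResidueField B) M v hv

theorem span_stalk_of_genOn {X : Scheme.{u}} {M : X.Modules} {U : X.Opens} {I : Type u} [Fintype I]
    {s : I → Γ(M, U)} (hs : QCohLib.GenOn M U s) {y : X} (hy : y ∈ U) :
    Submodule.span (X.presheaf.stalk y) (Set.range fun i => ger M y hy (s i)) = ⊤ := by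
  refine eq_top_iff.2 fun a _ => ?_
  obtain ⟨W, hyW, t, rfl⟩ := exists_ger M y a
  obtain ⟨W', hW', hW'₁, hyW', c, hc⟩ := hs (W ⊓ U) inf_le_right (res M inf_le_left t) y ⟨hyW, hy⟩
  have h1 := congrArg (ger M y hyW') hc
  have h2 : ger M y hyW' (∑ i, c i • res M hW'₁ (s i)) =
      ∑ i, X.presheaf.germ W' y hyW' (c i) • ger M y hy (s i) := by
    refine (map_sum (M.presheaf.germ W' y hyW').hom _ _).trans (Finset.sum_congr rfl fun i _ => ?_)
    exact (ger_smul M y hyW' (c i) (res M hW'₁ (s i))).trans (congrArg _ (ger_res M hW'₁ y hyW' (s i)))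
  have h3 : ger M y hyW t = ger M y hyW' (res M hW' (res M inf_le_left t)) := by
    rw [ger_res, ger_res]
  rw [h3]
  exact (h1.trans h2) ▸ Submodule.sum_mem _ fun i _ =>
    Submodule.smul_mem _ _ (Submodule.subset_span (Set.mem_range_self i))

theorem finrank_fibre_le {X Y : Scheme.{u}} (g : X ⟶ Y) (M : Y.Modules) {U : X.Opens} {I : Type u}
    [Fintype I] {s : I → Γ((Scheme.Modules.pullback g).obj M, U)}
    (hs : QCohLib.GenOn ((Scheme.Modules.pullback g).obj M) U s) {x : X} (hx : x ∈ U) :
    Module.finrank (IsLocalRing.ResidueField (Y.presheaf.stalk (g x)))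
      ((IsLocalRing.ResidueField (Y.presheaf.stalk (g x))) ⊗[Y.presheaf.stalk (g x)]
        (M.presheaf.stalk (g x))) ≤ Fintype.card I := by
  letI : Algebra (Y.presheaf.stalk (g x)) (X.presheaf.stalk x) := (g.stalkMap x).hom.toAlgebra
  haveI : IsLocalHom (algebraMap (Y.presheaf.stalk (g x)) (X.presheaf.stalk x)) :=
    inferInstanceAs (IsLocalHom (g.stalkMap x).hom)
  let e : X.presheaf.stalk x ⊗[Y.presheaf.stalk (g x)] M.presheaf.stalk (g x) ≃ₗ[X.presheaf.stalk x]
      ((Scheme.Modules.pullback g).obj M).presheaf.stalk x :=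
    ((KFlatLib.stalkPullIso g x).symm.app M).toLinearEquiv
  refine finrank_residue_tensor_le
    (fun i => e.symm (ger ((Scheme.Modules.pullback g).obj M) x hx (s i))) ?_
  have h := congrArg (Submodule.map e.symm.toLinearMap) (span_stalk_of_genOn hs hx)
  rw [Submodule.map_span, Submodule.map_top, LinearEquiv.range, ← Set.range_comp] at h
  exact h

variable {ι : Type u} {X : Scheme.{u}} {Xi : ι → Scheme.{u}}

theorem isFT_of_fpqc_cover (f : ∀ i, Xi i ⟶ X) (hf : Presieve.ofArrows Xi f ∈ Scheme.fpqcPrecoverage X)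
    (F : X.Modules) [Coh.IsQCoh F] (h : ∀ i, CohB1.IsFT ((Scheme.Modules.pullback (f i)).obj F)) :
    CohB1.IsFT F := by
  refine QCohLib.isFT_of_cover F (fun U : X.affineOpens => U.1) QCohLib.iSup_affineOpens_val fun U => ?_
  obtain ⟨m, a, V, o, b, -, -, hb, -, hfl, hsurj, hqc⟩ := DescLib.exists_affine_refinement hf U.2
  haveI := hfl
  haveI := hsurj
  haveI := hqc
  let H := (Scheme.Modules.pullback U.1.ι).obj F
  refine QCohLib.isFT_of_iso ((Scheme.Modules.restrictFunctorIsoPullback U.1.ι).app F).symm ?_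
  refine FpqcPCLib.isFT_of_pullback (Limits.Sigma.desc b) (Flat.isQuotientMap_of_surjective _) H ?_
  let g := Limits.Sigma.desc b
  let O : ULift.{u} (Fin m) → (∐ V).Opens := fun k => (Sigma.ι V k.down).opensRange
  refine QCohLib.isFT_of_cover _ O (eq_top_iff.2 fun p _ => ?_) fun k => ?_
  · obtain ⟨k, v, hv⟩ := (sigmaOpenCover V).exists_eq p
    exact Opens.mem_iSup.2 ⟨⟨k⟩, v, hv⟩
  refine QCohLib.isFT_of_iso
    ((Scheme.Modules.restrictFunctorIsoPullback (O k).ι).app ((Scheme.Modules.pullback g).obj H)).symm ?_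
  let e := (Sigma.ι V k.down).isoOpensRange.inv
  have he : (O k).ι ≫ g ≫ U.1.ι = (e ≫ o k.down) ≫ f (a k.down) := by
    have h1 : e ≫ Sigma.ι V k.down = (O k).ι := Scheme.Hom.isoOpensRange_inv_comp _
    rw [← h1, Category.assoc, Category.assoc, hb, Sigma.ι_desc_assoc]
  haveI := KFlatLib.isQCoh_pullback (f (a k.down)) F
  have := ConsLib.isFT_pullback (e ≫ o k.down) ((Scheme.Modules.pullback (f (a k.down))).obj F) (h _)
  refine QCohLib.isFT_of_iso ?_ this
  exact (Scheme.Modules.pullbackComp (e ≫ o k.down) (f (a k.down))).app F ≪≫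
    (Scheme.Modules.pullbackCongr he.symm).app F ≪≫
    ((Scheme.Modules.pullbackComp (O k).ι (g ≫ U.1.ι)).app F).symm ≪≫
    (Scheme.Modules.pullback (O k).ι).mapIso ((Scheme.Modules.pullbackComp g U.1.ι).app F).symm

/-- The number of local generators descends. -/
theorem exists_genOn_le (f : ∀ i, Xi i ⟶ X) (hf : Presieve.ofArrows Xi f ∈ Scheme.fpqcPrecoverage X)
    (F : X.Modules) [Coh.IsQCoh F] (r : ℕ)
    (h : ∀ i, ∃ σ : SheafOfModules.LocalGeneratorsData.{u} (R := (Xi i).ringCatSheaf)
      ((Scheme.Modules.pullback (f i)).obj F), ∀ k, Finite (σ.generators k).I ∧ Nat.card (σ.generators k).I ≤ r)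
    (x : X) :
    ∃ (U : X.Opens) (_ : x ∈ U) (n : ℕ) (_ : n ≤ r) (s : ULift.{u} (Fin n) → Γ(F, U)), QCohLib.GenOn F U s := by
  classical
  have hFT : CohB1.IsFT F := isFT_of_fpqc_cover f hf F fun i => by
    obtain ⟨σ, hσ⟩ := h i
    refine SheafOfModules.IsFiniteType.mk (R := (Xi i).ringCatSheaf) ⟨σ, ?_⟩
    exact SheafOfModules.LocalGeneratorsData.IsFiniteType.mk (R := (Xi i).ringCatSheaf)
      (M := (Scheme.Modules.pullback (f i)).obj F) (p := σ) fun k =>
      SheafOfModules.GeneratingSections.IsFiniteType.mk (σ := σ.generators k) (hσ k).1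
  obtain ⟨i, x', rfl⟩ := DescLib.ofArrows_surj hf x
  obtain ⟨σ, hσ⟩ := h i
  obtain ⟨k, hk⟩ : ∃ k, x' ∈ σ.X k :=
    Opens.mem_iSup.mp ((((Opens.coversTop_iff (Xi i : Type u) σ.X).mp σ.coversTop)).ge (Opens.mem_top x'))
  let G := QCohLib.genRestrict ((Scheme.Modules.pullback (f i)).obj F) (σ.X k) (σ.generators k)
  haveI : Finite G.I := (hσ k).1
  letI : Fintype G.I := Fintype.ofFinite G.I
  haveI : Epi ((((Scheme.Modules.pullback (f i)).obj F).restrict (show (Xi i).Opens from σ.X k).ι).freeHomEquiv.symm G.s) := G.epi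
  have hg := QCohLib.genOn_of_restrict
    (QCohLib.genTop_of_epi (M := ((Scheme.Modules.pullback (f i)).obj F).restrict (show (Xi i).Opens from σ.X k).ι) G.s)
  have hle := finrank_fibre_le (f i) F hg hk
  have hcard : Fintype.card G.I ≤ r := by
    rw [← Nat.card_eq_fintype_card]
    exact (hσ k).2
  obtain ⟨U, n, e, hxU, hn, he⟩ := MiscFlat6.exists_spanning_nhd hFT (f i x')
  refine ⟨U, hxU, n, hn ▸ (hle.trans hcard), fun j => e j.down,
    Groth.Agent.S2297.genOn_of_stalk F _ fun p hp v => ?_⟩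
  obtain ⟨c, hc⟩ := he p hp v
  rw [← hc, Fintype.linearCombination_apply]
  exact Submodule.sum_mem _ fun j _ => Submodule.smul_mem _ _ (Submodule.subset_span ⟨⟨j⟩, rfl⟩)

end LocGenDescLib
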